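import Mathlib

/-! Invariants of a finite group of invertible order inherit finite presentation. -/

universe u v w

namespace InvFPLib

open scoped Pointwise

variable {R : Type u} {A : Type v} [CommRing R] [CommRing A] [Algebra R A]
  {G : Type w} [Group G] [Fintype G] [MulSemiringAction G A] [SMulCommClass G R A]

omit [Fintype G] in
lemma isInvariant : Algebra.IsInvariant (FixedPoints.subalgebra R A G) A G :=
  ⟨fun x hx => ⟨⟨x, hx⟩, rfl⟩⟩

/-- The averaging map, linear over the invariants. -/
noncomputable def reynolds (r : R) : A →ₗ[FixedPoints.subalgebra R A G] FixedPoints.subalgebra R A G where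
  toFun a := ⟨r • ∑ g : G, g • a, fun h => by
    show h • (r • ∑ g : G, g • a) = r • ∑ g : G, g • a
    rw [smul_comm, Finset.smul_sum]
    congr 1
    exact Fintype.sum_equiv (Equiv.mulLeft h) _ _ fun g => by simp [mul_smul]⟩
  map_add' a b := Subtype.ext (by simp [Finset.sum_add_distrib])
  map_smul' c a := Subtype.ext (by
    show r • ∑ g : G, g • ((c : A) * a) = (c : A) * (r • ∑ g : G, g • a)
    simp only [MulSemiringAction.smul_mul, c.2 _, ← Finset.mul_sum, mul_smul_comm])

lemma reynolds_apply (r : R) (hr : (Fintype.card G : R) * r = 1) (b : FixedPoints.subalgebra R A G) :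
    reynolds r (b : A) = b := Subtype.ext (by
  show r • ∑ g : G, g • (b : A) = b
  rw [Finset.sum_congr rfl fun g _ => b.2 g, Finset.sum_const, Finset.card_univ,
    ← Nat.cast_smul_eq_nsmul R, smul_smul, mul_comm r, hr, one_smul])

lemma finiteType [Algebra.FiniteType R A] (r : R) (hr : (Fintype.card G : R) * r = 1) :
    Algebra.FiniteType R (FixedPoints.subalgebra R A G) := by
  classical
  set B := FixedPoints.subalgebra R A G
  have := isInvariant (R := R) (A := A) (G := G)
  have hint := Algebra.IsInvariant.isIntegral B A G
  obtain ⟨s, hs⟩ := Algebra.FiniteType.out (R := R) (A := A)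
  choose q hq hq0 using fun a : A => hint.1 a
  let T : Finset B := s.biUnion fun a => (q a).coeffs
  let C := Algebra.adjoin R (T : Set B)
  have hC : C.FG := ⟨T, rfl⟩
  have hintC : ∀ a ∈ s, IsIntegral C a := fun a ha => by
    have hsub : ↑(q a).coeffs ⊆ (C.toSubring : Set B) := fun x hx =>
      Algebra.subset_adjoin (by rw [Finset.mem_coe, Finset.mem_biUnion]; exact ⟨a, ha, hx⟩)
    refine ⟨(q a).toSubring C.toSubring hsub, (Polynomial.monic_toSubring _ _ hsub).2 (hq a), ?_⟩
    have h := hq0 a
    rw [← Polynomial.map_toSubring (q a) C.toSubring hsub, Polynomial.eval₂_map] at h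
    exact h
  have : Algebra.FiniteType C A := .of_restrictScalars_finiteType R C A
  have : Algebra.IsIntegral C A := ⟨fun x => by
    have hx : x ∈ Algebra.adjoin R (s : Set A) := hs ▸ trivial
    induction hx using Algebra.adjoin_induction with
    | mem y hy => exact hintC y hy
    | algebraMap t =>
      rw [IsScalarTower.algebraMap_apply R C A]
      exact isIntegral_algebraMap
    | add y z _ _ hy hz => exact hy.add hz
    | mul y z _ _ hy hz => exact hy.mul hz⟩
  have hfin : Module.Finite C A := Algebra.IsIntegral.finite
  have : Module.Finite C B := Module.Finite.of_surjective ((reynolds r).restrictScalars C)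
    (fun b => ⟨b, reynolds_apply r hr b⟩)
  have : Algebra.FiniteType R C := (Subalgebra.fg_iff_finiteType C).1 hC
  exact Algebra.FiniteType.trans this (inferInstance : Algebra.FiniteType C B)

theorem finitePresentation [Algebra.FinitePresentation R A] (r : R)
    (hr : (Fintype.card G : R) * r = 1) :
    Algebra.FinitePresentation R (FixedPoints.subalgebra R A G) := by
  classical
  set B := FixedPoints.subalgebra R A G
  have := finiteType r hr (A := A)
  obtain ⟨m, π, hπ⟩ := Algebra.FiniteType.iff_quotient_mvPolynomial''.1 this
  refine Algebra.FinitePresentation.of_surjective hπ ?_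
  let _ : Algebra (MvPolynomial (Fin m) R) B := π.toRingHom.toAlgebra
  let _ : Algebra (MvPolynomial (Fin m) R) A := (B.val.comp π).toRingHom.toAlgebra
  have : IsScalarTower (MvPolynomial (Fin m) R) B A := IsScalarTower.of_algebraMap_eq fun _ => rfl
  have : IsScalarTower R (MvPolynomial (Fin m) R) A :=
    IsScalarTower.of_algebraMap_eq fun x => ((B.val.comp π).commutes x).symm
  have := isInvariant (R := R) (A := A) (G := G)
  have hint := Algebra.IsInvariant.isIntegral B A G
  have : Algebra.FiniteType B A := .of_restrictScalars_finiteType R B A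
  have hBA : Module.Finite B A := Algebra.IsIntegral.finite
  have hPB : Module.Finite (MvPolynomial (Fin m) R) B :=
    Module.Finite.of_surjective (Algebra.linearMap _ B) hπ
  have hPA : Module.Finite (MvPolynomial (Fin m) R) A := Module.Finite.trans B A
  have hPA' : Algebra.FinitePresentation (MvPolynomial (Fin m) R) A :=
    Algebra.FinitePresentation.of_restrict_scalars_finitePresentation R (MvPolynomial (Fin m) R) A
  have := Module.FinitePresentation.of_finite_of_finitePresentation (MvPolynomial (Fin m) R) A
  let ρ : A →ₗ[MvPolynomial (Fin m) R] B := (reynolds r).restrictScalars _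
  let ι : B →ₗ[MvPolynomial (Fin m) R] A := (Algebra.linearMap B A).restrictScalars _
  have hρι : ∀ b, ρ (ι b) = b := fun b => reynolds_apply r hr b
  have hρ : Function.Surjective ρ := fun b => ⟨ι b, hρι b⟩
  have hker : LinearMap.ker ρ = LinearMap.range (LinearMap.id - ι.comp ρ) := by
    ext a
    refine ⟨fun ha => ⟨a, by simp [LinearMap.mem_ker.1 ha]⟩, ?_⟩
    rintro ⟨z, rfl⟩
    simp [hρι]
  have hfp : Module.FinitePresentation (MvPolynomial (Fin m) R) B :=
    Module.finitePresentation_of_surjective ρ hρ (by
      rw [hker, LinearMap.range_eq_map]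
      exact Module.Finite.fg_top.map _)
  have := Module.FinitePresentation.fg_ker (Algebra.linearMap (MvPolynomial (Fin m) R) B) hπ
  exact this

end InvFPLib
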